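import Cfsg.Agent.H874.War.TwD4
import Cfsg.Agent.H118.O8S.Mac

/-!
Elements of the Levi subgroup of the long node of `³D₄(q)` without fixed points (S2464), by base change to `D₄`.
-/

set_option autoImplicit false
set_option linter.unusedSectionVars false

namespace Cfsg.Agent.H932.TC6.BaseD4

open CoxeterSystem Cfsg.Agent.ChevalleyStructure.CoxeterGeom Cfsg.Agent.Tits.Roots Cfsg.Agent.Tits.Core
  Cfsg.Agent.Nodes Cfsg.Agent.Nodes.Reps Cfsg.Agent.Nodes.BNOf Cfsg.Agent.Nodes.RGDLib Cfsg.Agent.Nodes.Bruhat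
  Cfsg.Agent.Nodes.OppDec Cfsg.Agent.Nodes.LeviDec Cfsg.Agent.Nodes.StabComb Cfsg.Agent.Nodes.KindChev
  Cfsg.Agent.Nodes.ChevCls
  Cfsg.Agent.OddHalf.NI.ModelChev
  Cfsg.Agent.H162.GaussDec Cfsg.Agent.H162.GaussLevi Cfsg.Agent.H162.GaussSL
  Cfsg.Agent.H928.Ore.Frame Cfsg.Agent.H928.Ore.Fix
open Cfsg.Lie Cfsg.Agent.ChevalleyStructure Cfsg.Agent.ChevalleyStructure.Elts
  Cfsg.Agent.ChevalleyStructure.NPerm
  Cfsg.Agent.ChevalleyStructure.CoxeterGeomTypes Cfsg.Agent.Nodes.RGDChev Cfsg.Agent.KFacts.RgdChevCoord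
open Cfsg.Agent.Nodes.RGDTwGen Cfsg.Agent.Nodes.RGDFold Cfsg.Agent.Nodes.RGDTwD4
open Cfsg.Agent.Nodes.RGDFoldSL (Fx mem_Fx psi psi_up psi_lo psi_hS psi_mem hS wS map_hS map_up map_lo)
open Cfsg.Agent.ChevalleyStructure.TwistedU Cfsg.Agent.ChevalleyStructure.TwistedFix
open Cfsg.Agent.ChevalleyStructure.SL2Hom (up lo mem_closure_SL2)
open Cfsg.Agent.Nodes.RGDTwCoord (hI wt hI_conj)
open Cfsg.Agent.Nodes.RGDTwNode.D4 (nodeOK eps_one rest)
open Cfsg.Agent.OddHalf.NI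
open Cfsg.Agent.H874.War.TwD4
open scoped MatrixGroups

universe u

/-! ### The root `SL₂` of `D₄` -/

theorem h14 : 14 < chevD4.nroots := by decide +kernel
theorem hn14 : chevD4.neg 14 < chevD4.nroots := by decide +kernel

theorem root_le (K : Type u) [Field K] (r : ℕ) : chevD4.rootSubgroup K r ≤ chevD4.group K := fun x hx => by
  obtain ⟨t, rfl⟩ := (mem_rootSubgroup_iff RGDTwD4.hp.inList r x).1 hx
  exact xG_mem_group RGDTwD4.hp.inList r t

/-- the homomorphism of the central node of `D₄` -/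
noncomputable def Q (K : Type u) [Field K] : SL(2, K) →* ↥(chevD4.group K) :=
  (psi RGDTwD4.hp.inList K 14).codRestrict (chevD4.group K) fun g =>
    sup_le (root_le K _) (root_le K _)
      (psi_mem RGDTwD4.hp.inList h14 g)

theorem Q_up (K : Type u) [Field K] (t : K) : Q K (up t) = xc RGDTwD4.hp (vec chevD4 4 14) t := by
  apply Subtype.ext
  rw [coe_xc RGDTwD4.hp h14]
  exact psi_up RGDTwD4.hp.inList h14 t

theorem Q_lo (K : Type u) [Field K] (t : K) : Q K (lo t) = xc RGDTwD4.hp (vec chevD4 4 (chevD4.neg 14)) t := by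
  apply Subtype.ext
  rw [coe_xc RGDTwD4.hp hn14]
  exact psi_lo RGDTwD4.hp.inList h14 t

theorem eq_of_up_lo {K : Type*} [Field K] {G : Type*} [Group G] {f g : SL(2, K) →* G}
    (h1 : ∀ t, f (up t) = g (up t)) (h2 : ∀ t, f (lo t) = g (lo t)) : f = g := by
  ext x
  have : Subgroup.closure (Set.range (up (F := K)) ∪ Set.range (lo (F := K))) ≤ f.eqLocus g := by
    rw [Subgroup.closure_le]
    rintro _ (⟨a, rfl⟩ | ⟨a, rfl⟩)
    · exact h1 a
    · exact h2 a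
  exact this (mem_closure_SL2 x)

theorem bc_Q {K K' : Type u} [Field K] [Field K'] (ι : K →+* K') (g : SL(2, K)) :
    bc chevD4 ι (Q K g) = Q K' (Matrix.SpecialLinearGroup.map ι g) := by
  have h := eq_of_up_lo (f := (bc chevD4 ι).comp (Q K)) (g := (Q K').comp (Matrix.SpecialLinearGroup.map ι))
    (fun t => by
      show bc chevD4 ι (Q K (up t)) = Q K' (Matrix.SpecialLinearGroup.map ι (up t))
      rw [map_up, Q_up, Q_up, bc_xc RGDTwD4.hp ι h14])
    (fun t => by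
      show bc chevD4 ι (Q K (lo t)) = Q K' (Matrix.SpecialLinearGroup.map ι (lo t))
      rw [map_lo, Q_lo, Q_lo, bc_xc RGDTwD4.hp ι hn14])
  exact DFunLike.congr_fun h g

theorem commute_Q {K : Type u} [Field K] {t : ↥(chevD4.group K)} (ht : t ∈ TT chevD4 K)
    (h1 : ch RGDTwD4.hp (vec chevD4 4 14) t = 1) (h2 : ch RGDTwD4.hp (vec chevD4 4 (chevD4.neg 14)) t = 1)
    (g : SL(2, K)) : Commute t (Q K g) := by
  have : Subgroup.closure (Set.range (up (F := K)) ∪ Set.range (lo (F := K))) ≤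
      (Subgroup.centralizer {t}).comap (Q K) := by
    rw [Subgroup.closure_le]
    rintro _ (⟨a, rfl⟩ | ⟨a, rfl⟩)
    · show Q K (up a) ∈ Subgroup.centralizer {t}
      rw [Subgroup.mem_centralizer_singleton_iff, Q_up]
      have h3 := (act RGDTwD4.hp h14 ht).2 a
      rw [h1, one_mul] at h3
      exact (mul_inv_eq_iff_eq_mul.1 h3).symm
    · show Q K (lo a) ∈ Subgroup.centralizer {t}
      rw [Subgroup.mem_centralizer_singleton_iff, Q_lo]
      have h3 := (act RGDTwD4.hp hn14 ht).2 a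
      rw [h2, one_mul] at h3
      exact (mul_inv_eq_iff_eq_mul.1 h3).symm
  have h3 := Subgroup.mem_centralizer_singleton_iff.1 (this (mem_closure_SL2 g))
  exact h3.symm

theorem map_xG {K K' : Type u} [Field K] [Field K'] (ι : K →+* K') {r : ℕ} (hr : r < chevD4.nroots) (a : K) :
    Matrix.GeneralLinearGroup.map (n := chevD4.Idx) ι (xG RGDTwD4.hp.inList r a) = xG RGDTwD4.hp.inList r (ι a) := by
  apply Units.ext
  change (((xG RGDTwD4.hp.inList r a : GL chevD4.Idx K) : Matrix chevD4.Idx chevD4.Idx K)).map ι = _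
  rw [coe_xG, coe_xG, x_of_lt hr, x_of_lt hr]
  exact Cfsg.Agent.ChevalleyStructure.FieldIso.map_xMat chevD4 ι _ a

theorem neg_lt : ∀ r < chevD4.nroots, chevD4.neg r < chevD4.nroots := by decide +kernel

theorem map_nG {K K' : Type u} [Field K] [Field K'] (ι : K →+* K') {r : ℕ} (hr : r < chevD4.nroots) (a : K) :
    Matrix.GeneralLinearGroup.map (n := chevD4.Idx) ι (nG RGDTwD4.hp.inList r a) = nG RGDTwD4.hp.inList r (ι a) := by
  rw [nG_def, nG_def, map_mul, map_mul, map_xG ι hr, map_xG ι (neg_lt r hr), map_neg, map_inv₀]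

theorem map_hG {K K' : Type u} [Field K] [Field K'] (ι : K →+* K') {r : ℕ} (hr : r < chevD4.nroots) (a : K) :
    Matrix.GeneralLinearGroup.map (n := chevD4.Idx) ι (hG RGDTwD4.hp.inList r a) = hG RGDTwD4.hp.inList r (ι a) := by
  rw [hG_def, hG_def, map_mul, map_nG ι hr, map_nG ι hr, map_neg, map_one]

theorem bc_TT {K K' : Type u} [Field K] [Field K'] (ι : K →+* K') {t : ↥(chevD4.group K)} (ht : t ∈ TT chevD4 K) :
    bc chevD4 ι t ∈ TT chevD4 K' := by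
  have h1 := Subgroup.mem_subgroupOf.1 ht
  have h2 : chevD4.diagonalSubgroup K ≤
      (chevD4.diagonalSubgroup K').comap (Matrix.GeneralLinearGroup.map (n := chevD4.Idx) ι) := by
    refine (Subgroup.closure_le _).2 ?_
    rintro g ⟨r, t, hr, ht, e⟩
    have e2 : g = hG RGDTwD4.hp.inList r t := Units.ext (e.trans (coe_hG RGDTwD4.hp.inList r t).symm)
    rw [e2]
    show Matrix.GeneralLinearGroup.map (n := chevD4.Idx) ι (hG RGDTwD4.hp.inList r t) ∈ chevD4.diagonalSubgroup K'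
    rw [map_hG ι hr]
    exact hG_mem_diagonal RGDTwD4.hp.inList hr ((map_ne_zero ι).2 ht)
  exact Subgroup.mem_subgroupOf.2 (h2 h1)

theorem bc_ch {K K' : Type u} [Field K] [Field K'] (ι : K →+* K') {t : ↥(chevD4.group K)} (ht : t ∈ TT chevD4 K)
    {r : ℕ} (hr : r < chevD4.nroots) :
    ch RGDTwD4.hp (vec chevD4 4 r) (bc chevD4 ι t) = ι (ch RGDTwD4.hp (vec chevD4 4 r) t) := by
  apply ch_eq RGDTwD4.hp hr (bc_TT ι ht)
  have h := (act RGDTwD4.hp hr ht).2 1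
  have h2 := congrArg (bc chevD4 ι) h
  rw [map_mul, map_mul, map_inv, bc_xc RGDTwD4.hp ι hr, bc_xc RGDTwD4.hp ι hr, map_one, mul_one] at h2
  exact h2

theorem Q_dg_conj {K : Type u} [Field K] (l : Kˣ) {r : ℕ} (hr : r < chevD4.nroots) (u : K) :
    Q K (Mult.dg l) * xc RGDTwD4.hp (vec chevD4 4 r) u * (Q K (Mult.dg l))⁻¹ =
      xc RGDTwD4.hp (vec chevD4 4 r) ((l : K) ^ chevD4.cartan 1 r * u) := by
  apply Subtype.ext
  have e1 : ((Q K (Mult.dg l) : ↥(chevD4.group K)) : GL chevD4.Idx K) = hI RGDTwD4.hp (RingHom.id K) (J 0) (l : K) := by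
    rw [ModelTw.dg_eq]
    show psi RGDTwD4.hp.inList K 14 (hS (l : K)) = _
    rw [psi_hS RGDTwD4.hp.inList h14]
    show _ = hG RGDTwD4.hp.inList (chevD4.simple 1) (l : K) * 1
    rw [mul_one]
    rfl
  rw [Subgroup.coe_mul, Subgroup.coe_mul, Subgroup.coe_inv, coe_xc RGDTwD4.hp hr, coe_xc RGDTwD4.hp hr, e1,
    hI_conj (hp := RGDTwD4.hp) (φ := RingHom.id K) (J 0) hr l.ne_zero u]
  congr 1
  show (l : K) ^ chevD4.cartan 1 r * 1 * u = _
  rw [mul_one]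

theorem Q_dg_mem {K : Type u} [Field K] (l : Kˣ) : Q K (Mult.dg l) ∈ TT chevD4 K := by
  rw [Subgroup.mem_subgroupOf]
  rw [ModelTw.dg_eq]
  show psi RGDTwD4.hp.inList K 14 (hS (l : K)) ∈ _
  rw [psi_hS RGDTwD4.hp.inList h14]
  exact hG_mem_diagonal RGDTwD4.hp.inList h14 l.ne_zero

/-- the product with an element of the torus -/
theorem mul_Q_ch {K : Type u} [Field K] {t : ↥(chevD4.group K)} (ht : t ∈ TT chevD4 K) (l : Kˣ)
    {r : ℕ} (hr : r < chevD4.nroots) :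
    ch RGDTwD4.hp (vec chevD4 4 r) (t * Q K (Mult.dg l)) =
      ch RGDTwD4.hp (vec chevD4 4 r) t * (l : K) ^ chevD4.cartan 1 r := by
  apply ch_eq RGDTwD4.hp hr (mul_mem ht (Q_dg_mem l))
  have h1 := Q_dg_conj l hr 1
  have h2 := (act RGDTwD4.hp hr ht).2 ((l : K) ^ chevD4.cartan 1 r * 1)
  rw [← h1] at h2
  rw [mul_one] at h2
  rw [← h2]
  group

/-! ### The Levi subgroups -/

theorem Q_mem_LJ {K : Type u} [Field K] (T : Subgroup ↥(chevD4.group K)) (g : SL(2, K)) :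
    Q K g ∈ LJ coxeterD4.toCoxeterSystem RGDTwD4.hp.isCartan T (XX chevD4 4 K) {1} := by
  have v1 : ∀ k : Fin 4, k ∉ ({1} : Set (Fin 4)) → vec chevD4 4 14 k = 0 := by
    have : ∀ k : Fin 4, k ≠ 1 → vec chevD4 4 14 k = 0 := by decide +kernel
    exact fun k hk => this k hk
  have v2 : ∀ k : Fin 4, k ∉ ({1} : Set (Fin 4)) → vec chevD4 4 (chevD4.neg 14) k = 0 := by
    have : ∀ k : Fin 4, k ≠ 1 → vec chevD4 4 (chevD4.neg 14) k = 0 := by decide +kernel
    exact fun k hk => this k hk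
  have : Subgroup.closure (Set.range (up (F := K)) ∪ Set.range (lo (F := K))) ≤
      (LJ coxeterD4.toCoxeterSystem RGDTwD4.hp.isCartan T (XX chevD4 4 K) {1}).comap (Q K) := by
    rw [Subgroup.closure_le]
    rintro _ (⟨a, rfl⟩ | ⟨a, rfl⟩)
    · refine X_le_LJ (x := vec chevD4 4 14) ⟨isRoot_vec RGDTwD4.hp _ h14, v1⟩ ?_
      rw [Q_up]
      exact (mem_XX RGDTwD4.hp h14 _).2 ⟨a, rfl⟩
    · refine X_le_LJ (x := vec chevD4 4 (chevD4.neg 14)) ⟨isRoot_vec RGDTwD4.hp _ hn14, v2⟩ ?_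
      rw [Q_lo]
      exact (mem_XX RGDTwD4.hp hn14 _).2 ⟨a, rfl⟩
  exact this (mem_closure_SL2 g)

theorem tabJ : ∀ r < chevD4.nroots, (∀ k : Fin 2, 0 ≤ V chevD4 J r k) → (∃ k : Fin 2, k ≠ 0 ∧ 0 < V chevD4 J r k) →
    (∀ k : Fin 4, 0 ≤ vec chevD4 4 r k) ∧ ∃ k : Fin 4, k ≠ 1 ∧ 0 < vec chevD4 4 r k := by
  have h : ∀ r : Fin 24, (∀ k : Fin 2, 0 ≤ V chevD4 J r k) → (∃ k : Fin 2, k ≠ 0 ∧ 0 < V chevD4 J r k) →
    (∀ k : Fin 4, 0 ≤ vec chevD4 4 r k) ∧ ∃ k : Fin 4, k ≠ 1 ∧ 0 < vec chevD4 4 r k := by decide +kernel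
  exact fun r hr => h ⟨r, hr⟩

theorem tabJN : ∀ r < chevD4.nroots, (∀ k : Fin 2, V chevD4 J r k ≤ 0) → (∃ k : Fin 2, k ≠ 0 ∧ V chevD4 J r k < 0) →
    (∀ k : Fin 4, vec chevD4 4 r k ≤ 0) ∧ ∃ k : Fin 4, k ≠ 1 ∧ vec chevD4 4 r k < 0 := by
  have h : ∀ r : Fin 24, (∀ k : Fin 2, V chevD4 J r k ≤ 0) → (∃ k : Fin 2, k ≠ 0 ∧ V chevD4 J r k < 0) →
    (∀ k : Fin 4, vec chevD4 4 r k ≤ 0) ∧ ∃ k : Fin 4, k ≠ 1 ∧ vec chevD4 4 r k < 0 := by decide +kernel
  exact fun r hr => h ⟨r, hr⟩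

/-- the table of the scalars -/
theorem tabC : ∀ r < chevD4.nroots, (∃ k : Fin 4, k ≠ 1 ∧ vec chevD4 4 r k ≠ 0) →
    ((chevD4.cartan 0 r - chevD4.cartan 3 r = 0 ∧ chevD4.cartan 2 r - chevD4.cartan 3 r = 0 ∧
        (chevD4.cartan 1 r = 1 ∨ chevD4.cartan 1 r = -1)) ∨
      (chevD4.cartan 0 r - chevD4.cartan 3 r = 2 ∧ chevD4.cartan 2 r - chevD4.cartan 3 r = 0) ∨
      (chevD4.cartan 0 r - chevD4.cartan 3 r = -2 ∧ chevD4.cartan 2 r - chevD4.cartan 3 r = 0) ∨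
      (chevD4.cartan 0 r - chevD4.cartan 3 r = 0 ∧ chevD4.cartan 2 r - chevD4.cartan 3 r = 2) ∨
      (chevD4.cartan 0 r - chevD4.cartan 3 r = 0 ∧ chevD4.cartan 2 r - chevD4.cartan 3 r = -2) ∨
      (chevD4.cartan 0 r - chevD4.cartan 3 r = 2 ∧ chevD4.cartan 2 r - chevD4.cartan 3 r = 2) ∨
      (chevD4.cartan 0 r - chevD4.cartan 3 r = -2 ∧ chevD4.cartan 2 r - chevD4.cartan 3 r = -2)) := by
  have h : ∀ r : Fin 24, (∃ k : Fin 4, k ≠ 1 ∧ vec chevD4 4 r k ≠ 0) →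
    ((chevD4.cartan 0 r - chevD4.cartan 3 r = 0 ∧ chevD4.cartan 2 r - chevD4.cartan 3 r = 0 ∧
        (chevD4.cartan 1 r = 1 ∨ chevD4.cartan 1 r = -1)) ∨
      (chevD4.cartan 0 r - chevD4.cartan 3 r = 2 ∧ chevD4.cartan 2 r - chevD4.cartan 3 r = 0) ∨
      (chevD4.cartan 0 r - chevD4.cartan 3 r = -2 ∧ chevD4.cartan 2 r - chevD4.cartan 3 r = 0) ∨
      (chevD4.cartan 0 r - chevD4.cartan 3 r = 0 ∧ chevD4.cartan 2 r - chevD4.cartan 3 r = 2) ∨
      (chevD4.cartan 0 r - chevD4.cartan 3 r = 0 ∧ chevD4.cartan 2 r - chevD4.cartan 3 r = -2) ∨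
      (chevD4.cartan 0 r - chevD4.cartan 3 r = 2 ∧ chevD4.cartan 2 r - chevD4.cartan 3 r = 2) ∨
      (chevD4.cartan 0 r - chevD4.cartan 3 r = -2 ∧ chevD4.cartan 2 r - chevD4.cartan 3 r = -2)) := by decide +kernel
  exact fun r hr => h ⟨r, hr⟩

section

variable {W : Type*} [Group W] (cs : CoxeterSystem CoxeterMatrix.G₂ W) {K : Type u} [Field K]

theorem VJ_le (φ : K →+* K) (q : ℕ) : VJ cs RGDTwD4.isCartan (X φ q) {0} ≤
    (VJ coxeterD4.toCoxeterSystem RGDTwD4.hp.isCartan (XX chevD4 4 K) {1}).comap (inc K q) := by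
  refine RGD.Sup_le fun z hz => X_le fun r hr hrz => ?_
  obtain ⟨-, h0, k, hk, hk0⟩ := hz
  obtain ⟨h1, k', h2, h3⟩ := tabJ r hr (fun k => by rw [hrz]; exact h0 k) ⟨k, hk, by rw [hrz]; exact hk0⟩
  exact RGD.le_Sup ⟨isRoot_vec RGDTwD4.hp _ hr, fun k => h1 k, k', h2, h3⟩

theorem VNJ_le (φ : K →+* K) (q : ℕ) : VNJ cs RGDTwD4.isCartan (X φ q) {0} ≤
    (VNJ coxeterD4.toCoxeterSystem RGDTwD4.hp.isCartan (XX chevD4 4 K) {1}).comap (inc K q) := by
  refine RGD.Sup_le fun z hz => X_le fun r hr hrz => ?_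
  obtain ⟨-, h0, k, hk, hk0⟩ := hz
  obtain ⟨h1, k', h2, h3⟩ := tabJN r hr (fun k => by
      have := h0 k
      rw [hrz]
      simpa using this)
    ⟨k, hk, by rw [hrz]; simpa using hk0⟩
  refine RGD.le_Sup ⟨(isRoot_vec RGDTwD4.hp _ hr).neg, fun k => ?_, k', h2, ?_⟩
  · have := h1 k
    simpa using this
  · simpa using h3

end

/-! ### A field with the eigenvalues -/

theorem exists_ext (K : Type u) [Field K] [Finite K] (σ : K) : ∃ (K' : Type u) (_ : Field K') (_ : Fintype K')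
    (ι : K →+* K') (l : K'), l ^ 2 = ι σ * l - 1 := by
  classical
  obtain ⟨f, hf⟩ : ∃ f : Polynomial K, f = Polynomial.X ^ 2 - Polynomial.C σ * Polynomial.X + 1 := ⟨_, rfl⟩
  have hm : ∀ {L : Type u} [Field L] (ι : K →+* L), f.map ι =
      Polynomial.X ^ 2 - Polynomial.C (ι σ) * Polynomial.X + 1 := by
    intro L _ ι
    rw [hf]
    simp only [Polynomial.map_add, Polynomial.map_sub, Polynomial.map_pow, Polynomial.map_X, Polynomial.map_mul,
      Polynomial.map_C, Polynomial.map_one]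
  have hdeg : f.degree ≠ 0 := by
    have : f.degree = 2 := by
      rw [hf]
      compute_degree!
    rw [this]
    decide
  have : Finite (Polynomial.SplittingField f) := Module.finite_of_finite K
  have hs := Polynomial.SplittingField.splits f
  obtain ⟨l, hl⟩ := Polynomial.Splits.exists_eval_eq_zero hs (by rwa [Polynomial.degree_map])
  refine ⟨Polynomial.SplittingField f, inferInstance, Fintype.ofFinite _,
    algebraMap K (Polynomial.SplittingField f), l, ?_⟩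
  rw [hm] at hl
  simp only [Polynomial.eval_add, Polynomial.eval_sub, Polynomial.eval_pow,
    Polynomial.eval_X, Polynomial.eval_mul, Polynomial.eval_C, Polynomial.eval_one] at hl
  linear_combination hl

end Cfsg.Agent.H932.TC6.BaseD4
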