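import Cfsg.Agent.H932.TC6.BaseD4

/-!
Elements `z s` of the Levi subgroup of the long node of `³D₄(q)` (S2464): `z` of the torus, of order prime to `6` and
norm one, `s` in `SL₂(q)`, of coprime order: no fixed points on the unipotent radicals.
-/

set_option autoImplicit false
set_option linter.unusedSectionVars false

namespace Cfsg.Agent.H932.TC6.NFz

open CoxeterSystem Cfsg.Agent.ChevalleyStructure.CoxeterGeom Cfsg.Agent.Tits.Roots Cfsg.Agent.Tits.Core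
  Cfsg.Agent.Nodes Cfsg.Agent.Nodes.Reps Cfsg.Agent.Nodes.BNOf Cfsg.Agent.Nodes.RGDLib Cfsg.Agent.Nodes.Bruhat
  Cfsg.Agent.Nodes.OppDec Cfsg.Agent.Nodes.LeviDec Cfsg.Agent.Nodes.StabComb Cfsg.Agent.Nodes.KindChev
  Cfsg.Agent.Nodes.ChevCls
  Cfsg.Agent.OddHalf.NI.ModelChev
  Cfsg.Agent.H162.GaussDec Cfsg.Agent.H162.GaussLevi
  Cfsg.Agent.H928.Ore.Frame Cfsg.Agent.H928.Ore.Fix
open Cfsg.Lie Cfsg.Agent.ChevalleyStructure Cfsg.Agent.ChevalleyStructure.Elts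
  Cfsg.Agent.ChevalleyStructure.NPerm
  Cfsg.Agent.ChevalleyStructure.CoxeterGeomTypes Cfsg.Agent.Nodes.RGDChev Cfsg.Agent.KFacts.RgdChevCoord
open Cfsg.Agent.Nodes.RGDTwGen Cfsg.Agent.Nodes.RGDFold Cfsg.Agent.Nodes.RGDTwD4
open Cfsg.Agent.Nodes.RGDFoldSL (Fx mem_Fx psi psi_up psi_lo psi_hS psi_mem hS wS map_hS map_up map_lo)
open Cfsg.Agent.ChevalleyStructure.TwistedU Cfsg.Agent.ChevalleyStructure.TwistedFix
open Cfsg.Agent.ChevalleyStructure.SL2Hom (up lo mem_closure_SL2)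
open Cfsg.Agent.Nodes.RGDTwCoord (hI wt hI_conj)
open Cfsg.Agent.Nodes.RGDTwNode.D4 (nodeOK eps_one rest)
open Cfsg.Agent.Ree.PSLTori (tr)
open Cfsg.Agent.OddHalf.NI
open Cfsg.Agent.H874.War.TwD4 Cfsg.Agent.H932.TC6.BaseD4
open scoped MatrixGroups

universe u

section

variable {K : Type u} [Field K] [Fintype K] {φ : K →+* K} {q : ℕ} (hK : Fintype.card K = q ^ 3)
  (hφ : ∀ x, φ x = x ^ q)

/-- the image of the `SL₂` of the long node -/
theorem inc_P0 (s : SL(2, Fx φ ((rest 0).length + 1))) :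
    inc K q (P hK hφ 0 s) = Q K (Matrix.SpecialLinearGroup.map (Fx φ ((rest 0).length + 1)).subtype s) := by
  apply Subtype.ext
  show psi RGDTwD4.hp.inList K 14 (Matrix.SpecialLinearGroup.map (Fx φ ((rest 0).length + 1)).subtype s) * 1 = _
  rw [mul_one]
  rfl

/-- the element `z` of the torus -/
noncomputable def zz (w : (Fx φ ((rest 1).length + 1))ˣ) : ↥(twistedD4 K q) := tt hK hφ 1 w

theorem zz_pow (w : (Fx φ ((rest 1).length + 1))ˣ) (e : ℕ) : zz hK hφ w ^ e = zz hK hφ (w ^ e) := by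
  unfold zz
  rw [tt_pow, one_pow]

theorem zz_one : zz hK hφ (1 : (Fx φ ((rest 1).length + 1))ˣ) = 1 := by
  have h := zz_pow hK hφ (1 : (Fx φ ((rest 1).length + 1))ˣ) 0
  rw [pow_zero, pow_zero] at h
  exact h.symm

theorem inc_zz_mem (w : (Fx φ ((rest 1).length + 1))ˣ) : inc K q (zz hK hφ w) ∈ TT chevD4 K :=
  Subgroup.mem_subgroupOf.2 (Subgroup.mem_subgroupOf.1 (tt_mem hK hφ 1 w)).1

theorem ch_zz {w : (Fx φ ((rest 1).length + 1))ˣ} {v : K} (hv0 : v ≠ 0)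
    (hw : ((w : Fx φ ((rest 1).length + 1)) : K) = v) (hn : v * (φ v * φ (φ v)) = 1) {r : ℕ}
    (hr : r < chevD4.nroots) :
    ch RGDTwD4.hp (vec chevD4 4 r) (inc K q (zz hK hφ w)) =
      v ^ (chevD4.cartan 0 r - chevD4.cartan 3 r) * (φ v) ^ (chevD4.cartan 2 r - chevD4.cartan 3 r) := by
  have hφ0 : φ v ≠ 0 := (map_ne_zero φ).2 hv0
  have e3 : φ (φ v) = (v * φ v)⁻¹ := by
    apply eq_inv_of_mul_eq_one_left
    rw [← hn]
    ring
  apply ch_eq RGDTwD4.hp hr (inc_zz_mem hK hφ w)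
  have h1 := conj_tt hK hφ 1 w hr 1
  rw [mul_one] at h1
  unfold zz
  rw [h1, hw]
  congr 1
  show ((1 : K) ^ chevD4.cartan 1 r * 1) * (v ^ chevD4.cartan 0 r * ((φ v) ^ chevD4.cartan 2 r *
      ((φ (φ v)) ^ chevD4.cartan 3 r * 1))) = _
  rw [e3, inv_zpow, mul_zpow, one_zpow, zpow_sub₀ hv0, zpow_sub₀ hφ0, mul_inv]
  simp only [div_eq_mul_inv]
  ring

/-- `z` commutes with the `SL₂` of the long node -/
theorem commute_zz {w : (Fx φ ((rest 1).length + 1))ˣ} {v : K} (hv0 : v ≠ 0)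
    (hw : ((w : Fx φ ((rest 1).length + 1)) : K) = v) (hn : v * (φ v * φ (φ v)) = 1)
    (s : SL(2, Fx φ ((rest 0).length + 1))) : Commute (zz hK hφ w) (P hK hφ 0 s) := by
  have h1 : ∀ r, r = 14 ∨ r = chevD4.neg 14 → chevD4.cartan 0 r - chevD4.cartan 3 r = 0 ∧
      chevD4.cartan 2 r - chevD4.cartan 3 r = 0 := by
    rintro r (rfl | rfl) <;> decide +kernel
  have h2 := commute_Q (inc_zz_mem hK hφ w)
    (by rw [ch_zz hK hφ hv0 hw hn h14, (h1 14 (Or.inl rfl)).1, (h1 14 (Or.inl rfl)).2]; simp)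
    (by rw [ch_zz hK hφ hv0 hw hn hn14, (h1 _ (Or.inr rfl)).1, (h1 _ (Or.inr rfl)).2]; simp)
    (Matrix.SpecialLinearGroup.map (Fx φ ((rest 0).length + 1)).subtype s)
  rw [← inc_P0 hK hφ] at h2
  apply inc_injective q
  rw [map_mul, map_mul]
  exact h2

/-- the condition on the scalars -/
theorem scal_ne {K' : Type u} [Field K'] (ι : K →+* K') {v : K} (hv1 : v ≠ 1) (hn : v * (φ v * φ (φ v)) = 1)
    {r₁ r₂ : ℕ} (hv : v ^ r₁ = 1) (hodd : Odd r₁) (hcop : Nat.Coprime r₁ r₂) {l : K'} (hl : l ^ r₂ = 1)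
    (hl1 : l ≠ 1) {r : ℕ} (hr : r < chevD4.nroots) (hk : ∃ k : Fin 4, k ≠ 1 ∧ vec chevD4 4 r k ≠ 0) :
    ι (v ^ (chevD4.cartan 0 r - chevD4.cartan 3 r) * (φ v) ^ (chevD4.cartan 2 r - chevD4.cartan 3 r)) *
      l ^ chevD4.cartan 1 r ≠ 1 := by
  have hr₁0 : r₁ ≠ 0 := by rintro rfl; exact absurd hodd (by decide)
  have hv0 : v ≠ 0 := by
    rintro rfl
    rw [zero_pow hr₁0] at hv
    exact zero_ne_one hv
  -- no element of order two
  have hsq : ∀ {x : K}, x ^ r₁ = 1 → x ^ 2 = 1 → x = 1 := by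
    intro x h1 h2
    have h3 := pow_gcd_eq_one.2 ⟨h1, h2⟩
    rwa [(Nat.coprime_two_right.2 hodd : Nat.gcd r₁ 2 = 1), pow_one] at h3
  have hφv : (φ v) ^ r₁ = 1 := by rw [← map_pow, hv, map_one]
  have hφ1 : φ v ≠ 1 := fun h => hv1 (φ.injective (by rw [h, map_one]))
  have hφφ1 : φ (φ v) ≠ 1 := fun h => hφ1 (φ.injective (by rw [h, map_one]))
  have hsq2 : ∀ {x : K}, x ≠ 1 → x ^ r₁ = 1 → x ^ (2 : ℤ) ≠ 1 := fun h1 h2 h3 => h1 (hsq h2 (by exact_mod_cast h3))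
  have hsq3 : ∀ {x : K}, x ≠ 1 → x ^ r₁ = 1 → x ^ (-2 : ℤ) ≠ 1 := by
    intro x h1 h2 h3
    rw [zpow_neg, inv_eq_one] at h3
    exact hsq2 h1 h2 h3
  intro h
  obtain ⟨m, hm⟩ : ∃ m, m = v ^ (chevD4.cartan 0 r - chevD4.cartan 3 r) *
    (φ v) ^ (chevD4.cartan 2 r - chevD4.cartan 3 r) := ⟨_, rfl⟩
  rw [← hm] at h
  have hm1 : m ^ r₁ = 1 := by
    rw [hm, mul_pow, ← zpow_natCast, ← zpow_natCast, zpow_comm, zpow_natCast, hv, one_zpow, one_mul, zpow_comm,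
      zpow_natCast, hφv, one_zpow]
  have hl2 : (l ^ chevD4.cartan 1 r) ^ r₂ = 1 := by
    rw [← zpow_natCast, zpow_comm, zpow_natCast, hl, one_zpow]
  have hm2 : (ι m) ^ r₂ = 1 := by
    have := congrArg (· ^ r₂) h
    simp only [mul_pow, one_pow] at this
    rwa [hl2, mul_one] at this
  have hm3 : ι m = 1 := by
    have h4 : (ι m) ^ r₁ = 1 := by rw [← map_pow, hm1, map_one]
    have h3 := pow_gcd_eq_one.2 ⟨h4, hm2⟩
    rwa [(hcop : Nat.gcd r₁ r₂ = 1), pow_one] at h3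
  have hm4 : m = 1 := ι.injective (by rw [hm3, map_one])
  rw [hm3, one_mul] at h
  rw [hm4] at hm
  rcases tabC r hr hk with ⟨h1, h2, h3⟩ | ⟨h1, h2⟩ | ⟨h1, h2⟩ | ⟨h1, h2⟩ | ⟨h1, h2⟩ | ⟨h1, h2⟩ | ⟨h1, h2⟩
  · rcases h3 with h3 | h3
    · rw [h3, zpow_one] at h
      exact hl1 h
    · rw [h3, zpow_neg_one, inv_eq_one] at h
      exact hl1 h
  · rw [h1, h2, zpow_zero, mul_one] at hm
    exact hsq2 hv1 hv hm.symm
  · rw [h1, h2, zpow_zero, mul_one] at hm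
    exact hsq3 hv1 hv hm.symm
  · rw [h1, h2, zpow_zero, one_mul] at hm
    exact hsq2 hφ1 hφv hm.symm
  · rw [h1, h2, zpow_zero, one_mul] at hm
    exact hsq3 hφ1 hφv hm.symm
  · have hvv : v * φ v ≠ 1 := by
      intro h5
      apply hφφ1
      rw [← hn, ← mul_assoc, h5, one_mul]
    rw [h1, h2, ← mul_zpow] at hm
    exact hsq2 hvv (by rw [mul_pow, hv, hφv, one_mul]) hm.symm
  · have hvv : v * φ v ≠ 1 := by
      intro h5
      apply hφφ1
      rw [← hn, ← mul_assoc, h5, one_mul]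
    rw [h1, h2, ← mul_zpow] at hm
    exact hsq3 hvv (by rw [mul_pow, hv, hφv, one_mul]) hm.symm

/-- **No fixed points.** -/
theorem nf {W : Type*} [Group W] (cs : CoxeterSystem CoxeterMatrix.G₂ W)
    {w : (Fx φ ((rest 1).length + 1))ˣ} {v : K} (hw : ((w : Fx φ ((rest 1).length + 1)) : K) = v)
    (hv1 : v ≠ 1) (hn : v * (φ v * φ (φ v)) = 1)
    {r₁ r₂ : ℕ} (hv : v ^ r₁ = 1) (hodd : Odd r₁) (hcop : Nat.Coprime r₁ r₂)
    {s : SL(2, Fx φ ((rest 0).length + 1))} (hs : s ^ r₂ = 1) (hts : tr s ^ 2 ≠ 4) :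
    NF (VNJ cs RGDTwD4.isCartan (X φ q) {0}) (zz hK hφ w * P hK hφ 0 s) ∧
      NF (VJ cs RGDTwD4.isCartan (X φ q) {0}) (zz hK hφ w * P hK hφ 0 s) := by
  have hr₁0 : r₁ ≠ 0 := by rintro rfl; exact absurd hodd (by decide)
  have hv0 : v ≠ 0 := by
    rintro rfl
    rw [zero_pow hr₁0] at hv
    exact zero_ne_one hv
  obtain ⟨K', _, _, ι, l, hl⟩ := exists_ext K ((tr s : Fx φ ((rest 0).length + 1)) : K)
  obtain ⟨j, hj⟩ : ∃ j : Fx φ ((rest 0).length + 1) →+* K', j = ι.comp (Fx φ ((rest 0).length + 1)).subtype := ⟨_, rfl⟩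
  have htr : tr (Matrix.SpecialLinearGroup.map j s) = ι ((tr s : Fx φ ((rest 0).length + 1)) : K) := by
    rw [hj]
    show ι (s.1 0 0 : Fx φ ((rest 0).length + 1)) + ι (s.1 1 1 : Fx φ ((rest 0).length + 1)) = _
    rw [← map_add]
    rfl
  have hmj : (Matrix.SpecialLinearGroup.map ι (Matrix.SpecialLinearGroup.map (Fx φ ((rest 0).length + 1)).subtype s)) =
      Matrix.SpecialLinearGroup.map j s := by
    rw [hj]
    rfl
  have hτ : tr (Matrix.SpecialLinearGroup.map j s) ^ 2 ≠ 4 := by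
    intro h
    apply hts
    have h2 : j (tr s ^ 2) = j 4 := by
      rw [map_pow, map_ofNat, ← h, htr, hj]
      rfl
    exact j.injective h2
  have hl0 : l ≠ 0 := by
    rintro rfl
    rw [mul_zero, zero_sub] at hl
    norm_num at hl
  have hl1 : l ≠ 1 := by
    rintro rfl
    apply hτ
    have h2 : ι ((tr s : Fx φ ((rest 0).length + 1)) : K) = 2 := by linear_combination -hl
    rw [htr, h2]
    norm_num
  have hlp : l ^ r₂ = 1 := by
    have := Cfsg.Agent.H118.O8S.pow_eq_one (L := K') (Matrix.SpecialLinearGroup.map j s) hτ (ζ := l)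
      (by rw [htr]; exact hl) (m := r₂) (by rw [← map_pow, hs, map_one])
    exact this
  obtain ⟨L, hL⟩ : ∃ L : K'ˣ, (L : K') = l := ⟨Units.mk0 l hl0, rfl⟩
  have hcj : IsConj (Mult.dg L) (Matrix.SpecialLinearGroup.map j s) := by
    have h3 : tr (Matrix.SpecialLinearGroup.map j s) = tr (Mult.dg L) := by
      show _ = (L : K') + ((L⁻¹ : K'ˣ) : K')
      rw [Units.val_inv_eq_inv_val, hL, htr]
      field_simp
      linear_combination -hl
    exact (Cfsg.Agent.H118.O8S.exists_conj _ _ hτ h3).symm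
  obtain ⟨h, hh⟩ := isConj_iff.1 hcj
  -- the image in `D₄(K')`
  obtain ⟨t, ht⟩ : ∃ t, t = bc chevD4 ι (inc K q (zz hK hφ w)) := ⟨_, rfl⟩
  have htm : t ∈ TT chevD4 K' := by rw [ht]; exact bc_TT ι (inc_zz_mem hK hφ w)
  have hch : ∀ {r : ℕ}, r < chevD4.nroots → ch RGDTwD4.hp (vec chevD4 4 r) t =
      ι (v ^ (chevD4.cartan 0 r - chevD4.cartan 3 r) * (φ v) ^ (chevD4.cartan 2 r - chevD4.cartan 3 r)) := by
    intro r hr
    rw [ht, bc_ch ι (inc_zz_mem hK hφ w) hr, ch_zz hK hφ hv0 hw hn hr]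
  have hc1 : ∀ r, r = 14 ∨ r = chevD4.neg 14 → chevD4.cartan 0 r - chevD4.cartan 3 r = 0 ∧
      chevD4.cartan 2 r - chevD4.cartan 3 r = 0 := by
    rintro r (rfl | rfl) <;> decide +kernel
  have hcomm : ∀ g, Commute t (Q K' g) := fun g => commute_Q htm
    (by rw [hch h14, (hc1 14 (Or.inl rfl)).1, (hc1 14 (Or.inl rfl)).2]; simp)
    (by rw [hch hn14, (hc1 _ (Or.inr rfl)).1, (hc1 _ (Or.inr rfl)).2]; simp) g
  have himg : bc chevD4 ι (inc K q (zz hK hφ w * P hK hφ 0 s)) = Q K' h * (t * Q K' (Mult.dg L)) * (Q K' h)⁻¹ := by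
    rw [map_mul, map_mul, ← ht, inc_P0, bc_Q, hmj, ← hh, map_mul, map_mul, map_inv]
    rw [← mul_assoc (Q K' h) t, ← (hcomm h).eq]
    simp only [mul_assoc]
  have hm2 : t * Q K' (Mult.dg L) ∈ TT chevD4 K' := mul_mem htm (Q_dg_mem L)
  obtain ⟨p, hpc⟩ := CharP.exists K'
  have : Fact p.Prime := ⟨(CharP.char_is_prime_or_zero K' p).resolve_right (CharP.char_ne_zero_of_finite K' p)⟩
  have R := RGDChev.rgd (K := K') RGDTwD4.hp coxeterD4.toCoxeterSystem p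
  have := Cfsg.Agent.Nodes.RGDChev.finite_W RGDTwD4.hp coxeterD4.toCoxeterSystem
  have hf : NoFix coxeterD4.toCoxeterSystem RGDTwD4.hp.isCartan (XX chevD4 4 K') {1} (t * Q K' (Mult.dg L)) := by
    refine noFix_ch RGDTwD4.hp hm2 fun r hr hk => ?_
    rw [mul_Q_ch htm L hr, hch hr, hL]
    exact scal_ne ι hv1 hn hv hodd hcop hlp hl1 hr hk
  obtain ⟨g1, g2⟩ := nf_conj R hm2 hf (Q_mem_LJ (TT chevD4 K') h)
  rw [← himg] at g1 g2
  constructor
  · refine NF.of_hom _ (inc_injective q) (VNJ_le cs φ q) ?_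
    exact NF.of_hom _ (bc_injective chevD4 ι) (VNJ_le_comap RGDTwD4.hp ι {1}) g2
  · refine NF.of_hom _ (inc_injective q) (VJ_le cs φ q) ?_
    exact NF.of_hom _ (bc_injective chevD4 ι) (VJ_le_comap RGDTwD4.hp ι {1}) g1

end

end Cfsg.Agent.H932.TC6.NFz
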