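import Cfsg.Agent.H118.O8S.Mac
import Cfsg.Agent.ClassicalGeometry.PSL2Basic

/-!
Elements of prime order of `SL₂(F)` and their traces (S2464).
-/

set_option autoImplicit false
set_option linter.unusedSectionVars false

namespace Cfsg.Agent.H932.TC6.SLElt

open Matrix
open Cfsg.Agent.Ree.PSLTori (tr)
open scoped MatrixGroups

section

variable {F : Type*} [Field F]

theorem det_one (M : SL(2, F)) : M.1 0 0 * M.1 1 1 - M.1 0 1 * M.1 1 0 = 1 := by
  have h := M.2
  rwa [Matrix.det_fin_two] at h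

/-- Cayley–Hamilton -/
theorem sq_eq (M : SL(2, F)) : M.1 * M.1 = tr M • M.1 - 1 := by
  have h := det_one M
  ext i j
  fin_cases i <;> fin_cases j <;>
    simp only [Matrix.mul_apply, Fin.sum_univ_two, Matrix.sub_apply, Matrix.smul_apply, smul_eq_mul, tr,
      Matrix.one_apply, Fin.zero_eta, Fin.mk_one, Fin.isValue, if_true, zero_ne_one, one_ne_zero, if_false,
      sub_zero]
  · linear_combination -h
  · ring
  · ring
  · linear_combination -h

theorem pow_lin {N : Matrix (Fin 2) (Fin 2) F} (hN : N * N = (2 : F) • N - 1) (n : ℕ) :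
    N ^ n = (n : F) • N - ((n : F) - 1) • (1 : Matrix (Fin 2) (Fin 2) F) := by
  induction n with
  | zero =>
    rw [pow_zero, Nat.cast_zero, zero_smul, zero_sub, zero_sub, neg_smul, neg_neg, one_smul]
  | succ n ih =>
    rw [pow_succ, ih, sub_mul, smul_mul_assoc, smul_mul_assoc, one_mul, hN, Nat.cast_add, Nat.cast_one]
    module

/-- an element of odd order prime to the characteristic, of trace `± 2`, is trivial -/
theorem tr_ne_four {M : SL(2, F)} {r : ℕ} (hr : Odd r) (hrF : (r : F) ≠ 0) (hM : M ^ r = 1) (hM1 : M ≠ 1) :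
    tr M ^ 2 ≠ 4 := by
  intro hτ
  apply hM1
  obtain ⟨ε, hε, hε2⟩ : ∃ ε : F, tr M = 2 * ε ∧ ε ^ 2 = 1 := by
    by_cases h2 : (2 : F) = 0
    · refine ⟨1, ?_, one_pow 2⟩
      have h4 : (4 : F) = 0 := by
        have : (4 : F) = 2 * 2 := by norm_num
        rw [this, h2, zero_mul]
      rw [h4] at hτ
      rw [pow_eq_zero_iff two_ne_zero |>.1 hτ, h2, zero_mul]
    · refine ⟨tr M / 2, by field_simp, ?_⟩
      rw [div_pow, hτ]
      have : (2 : F) ^ 2 = 4 := by norm_num
      rw [this]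
      refine div_self ?_
      rw [← this]
      exact pow_ne_zero 2 h2
  have hε0 : ε ≠ 0 := by
    rintro rfl
    rw [zero_pow two_ne_zero] at hε2
    exact zero_ne_one hε2
  have h1 := sq_eq M
  obtain ⟨N, hN⟩ : ∃ N, N = ε • M.1 := ⟨_, rfl⟩
  have h2 : N * N = (2 : F) • N - 1 := by
    rw [hN, smul_mul_smul_comm, h1, hε, smul_sub, smul_smul, smul_smul]
    have e1 : ε * ε * (2 * ε) = 2 * ε := by linear_combination (2 * ε) * hε2
    have e2 : ε * ε = 1 := by linear_combination hε2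
    rw [e1, e2, one_smul]
  have h3 := pow_lin h2 r
  have hMr : M.1 ^ r = 1 := by
    have := congrArg (fun A : SL(2, F) => A.1) hM
    simpa using this
  have h4 : N ^ r = ε ^ r • (1 : Matrix (Fin 2) (Fin 2) F) := by
    rw [hN, smul_pow, hMr]
  rw [h4] at h3
  have a01 := congrFun (congrFun h3 0) 1
  have a10 := congrFun (congrFun h3 1) 0
  have a00 := congrFun (congrFun h3 0) 0
  have a11 := congrFun (congrFun h3 1) 1
  simp only [hN, Matrix.sub_apply, Matrix.smul_apply, smul_eq_mul, Matrix.one_apply, Fin.isValue, if_true,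
    zero_ne_one, one_ne_zero, if_false, sub_zero, mul_zero, mul_one] at a01 a10 a00 a11
  have m01 : M.1 0 1 = 0 := by
    rcases mul_eq_zero.1 a01.symm with h | h
    · exact absurd h hrF
    · exact (mul_eq_zero.1 h).resolve_left hε0
  have m10 : M.1 1 0 = 0 := by
    rcases mul_eq_zero.1 a10.symm with h | h
    · exact absurd h hrF
    · exact (mul_eq_zero.1 h).resolve_left hε0
  have m11 : M.1 0 0 = M.1 1 1 := by
    have h5 : (r : F) * (ε * (M.1 0 0 - M.1 1 1)) = 0 := by linear_combination a11 - a00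
    have h6 := (mul_eq_zero.1 ((mul_eq_zero.1 h5).resolve_left hrF)).resolve_left hε0
    exact sub_eq_zero.1 h6
  have hd := det_one M
  rw [m01, zero_mul, sub_zero, ← m11] at hd
  have hc : M.1 = M.1 0 0 • (1 : Matrix (Fin 2) (Fin 2) F) := by
    ext i j
    fin_cases i <;> fin_cases j
    · simp
    · simpa using m01
    · simpa using m10
    · simpa using m11.symm
  have hcr : (M.1 0 0) ^ r = 1 := by
    rw [hc, smul_pow, one_pow] at hMr
    have := congrFun (congrFun hMr 0) 0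
    simpa using this
  obtain ⟨k, rfl⟩ := hr
  have hc1 : M.1 0 0 = 1 := by
    rw [pow_succ, pow_mul, pow_two, hd, one_pow, one_mul] at hcr
    exact hcr
  apply Subtype.ext
  rw [hc, hc1, one_smul]
  rfl

theorem tr_sq_ne_one {M : SL(2, F)} {r : ℕ} (hr : Nat.Coprime 6 r) (hM : M ^ r = 1) (hM1 : M ≠ 1) :
    tr M ^ 2 ≠ 1 := by
  intro hτ
  apply hM1
  have h1 := sq_eq M
  have h3 : M.1 ^ 3 = -(tr M) • (1 : Matrix (Fin 2) (Fin 2) F) := by
    rw [pow_succ, pow_two, h1, sub_mul, smul_mul_assoc, h1, smul_sub, smul_smul]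
    have e1 : tr M * tr M = 1 := by rw [← pow_two, hτ]
    rw [e1, one_smul, one_mul]
    module
  have h6 : M ^ 6 = 1 := by
    apply Subtype.ext
    rw [Matrix.SpecialLinearGroup.coe_pow]
    have : M.1 ^ 6 = M.1 ^ 3 * M.1 ^ 3 := by rw [← pow_add]
    rw [this, h3, smul_mul_smul_comm, mul_one]
    have e1 : -tr M * -tr M = 1 := by linear_combination hτ
    rw [e1, one_smul]
    rfl
  have h7 := pow_gcd_eq_one.2 ⟨h6, hM⟩
  rwa [(hr : Nat.gcd 6 r = 1), pow_one] at h7

theorem tr_sq (M : SL(2, F)) : tr (M ^ 2) = tr M ^ 2 - 2 := by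
  have h := det_one M
  have h2 : (M ^ 2).1 = M.1 * M.1 := by rw [pow_two]; rfl
  show (M ^ 2).1 0 0 + (M ^ 2).1 1 1 = (M.1 0 0 + M.1 1 1) ^ 2 - 2
  rw [h2]
  simp only [Matrix.mul_apply, Fin.sum_univ_two]
  linear_combination (-2) * h

end

/-- an element of prime order `r ≥ 5`, `r ∣ q² - 1` -/
theorem exists_s {F : Type*} [Field F] [Fintype F] {r : ℕ} (hr : r.Prime) (h5 : 5 ≤ r)
    (hd : r ∣ Fintype.card F ^ 2 - 1) :
    ∃ s : SL(2, F), s ^ r = 1 ∧ tr s ^ 2 ≠ 4 ∧ tr (s ^ 2) ^ 2 ≠ 4 ∧ tr s ^ 2 ≠ tr (s ^ 2) ^ 2 := by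
  have := Fact.mk hr
  obtain ⟨s, hs⟩ := exists_prime_orderOf_dvd_card' (G := SL(2, F)) r (by
    rw [Cfsg.Agent.ClassicalGeometry.PSL2Basic.card_SL2]; exact hd.mul_left _)
  have hs1 : s ^ r = 1 := by rw [← hs]; exact pow_orderOf_eq_one s
  have hs0 : s ≠ 1 := by
    rintro rfl
    rw [orderOf_one] at hs
    omega
  have hodd : Odd r := hr.odd_of_ne_two (by omega)
  have hs2 : s ^ 2 ≠ 1 := by
    intro h
    have h3 := pow_gcd_eq_one.2 ⟨hs1, h⟩
    rw [(Nat.coprime_two_right.2 hodd : Nat.gcd r 2 = 1), pow_one] at h3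
    exact hs0 h3
  have hs3 : (s ^ 2) ^ r = 1 := by rw [← pow_mul, mul_comm, pow_mul, hs1, one_pow]
  have hrF : (r : F) ≠ 0 := by
    intro h0
    obtain ⟨k, hk⟩ := hd
    have hc : ((Fintype.card F : ℕ) : F) = 0 := FiniteField.cast_card_eq_zero F
    have hpos : 1 ≤ Fintype.card F ^ 2 := Nat.one_le_pow _ _ Fintype.card_pos
    have h1 : Fintype.card F ^ 2 = r * k + 1 := by omega
    have h2 := congrArg (Nat.cast (R := F)) h1
    rw [Nat.cast_pow, hc, Nat.cast_add, Nat.cast_mul, h0] at h2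
    norm_num at h2
  have h6 : Nat.Coprime 6 r := by
    have e2 : Nat.Coprime 2 r := (Nat.coprime_primes Nat.prime_two hr).2 (by omega)
    have e3 : Nat.Coprime 3 r := (Nat.coprime_primes Nat.prime_three hr).2 (by omega)
    exact Nat.Coprime.mul_left e2 e3
  have g1 := tr_ne_four hodd hrF hs1 hs0
  have g2 := tr_ne_four hodd hrF hs3 hs2
  have g3 := tr_sq_ne_one h6 hs1 hs0
  refine ⟨s, hs1, g1, g2, ?_⟩
  rw [tr_sq]
  intro h
  have h7 : (tr s ^ 2 - 4) * (tr s ^ 2 - 1) = 0 := by linear_combination -h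
  rcases mul_eq_zero.1 h7 with h8 | h8
  · exact g1 (sub_eq_zero.1 h8)
  · exact g3 (sub_eq_zero.1 h8)

end Cfsg.Agent.H932.TC6.SLElt
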