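import Cfsg.Agent.H118.O8S.Mac
import Cfsg.Agent.H162.GaussSL

/-!
`exists_pair` : every nonscalar element of `SL₂(F)`, `F` finite, is a product of an element of trace `α` and an element
of trace `β`, if `α² ≠ β²` (S2464).
-/

set_option autoImplicit false
set_option linter.unusedSectionVars false

namespace Cfsg.Agent.H932.TC6.SLPair

open Matrix
open scoped MatrixGroups
open Cfsg.Agent.ClassicalGeometry.SplitTorus (mul00 mul01 mul10 mul11 inv00 inv01 inv10 inv11 det_eq ext2)
open Cfsg.Agent.Ree.PSLTori (comp tr comp00 comp01 comp10 comp11 tr_mul_comm)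
open Cfsg.Agent.H118.O8S (exists_value)
open Cfsg.Agent.H162.GaussSL (gc gc_mul)

section

variable {F : Type*} [Field F] [Fintype F]

theorem comp_pair (γ α β : F) (h : α ^ 2 ≠ β ^ 2) : ∃ N : SL(2, F), tr N = α ∧ tr (comp γ * N) = β := by
  obtain ⟨x, z, key⟩ : ∃ x z : F, x ^ 2 + γ * x * z + z ^ 2 - α * x + (β - γ * α) * z + 1 = 0 := by
    by_cases hγ : γ ^ 2 = 4
    · obtain ⟨ε, hε, hε2⟩ : ∃ ε : F, γ = 2 * ε ∧ ε ^ 2 = 1 := by
        by_cases h2 : (2 : F) = 0
        · refine ⟨1, ?_, one_pow 2⟩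
          have h4 : (4 : F) = 0 := by
            have : (4 : F) = 2 * 2 := by norm_num
            rw [this, h2, zero_mul]
          rw [h4] at hγ
          rw [pow_eq_zero_iff two_ne_zero |>.1 hγ, h2, zero_mul]
        · refine ⟨γ / 2, by field_simp, ?_⟩
          rw [div_pow, hγ]
          have : (2 : F) ^ 2 = 4 := by norm_num
          rw [this]
          refine div_self ?_
          rw [← this]
          exact pow_ne_zero 2 h2
      have hd : β - ε * α ≠ 0 := by
        intro h0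
        apply h
        have : β = ε * α := sub_eq_zero.1 h0
        rw [this, mul_pow, hε2, one_mul]
      refine ⟨ε * (β - ε * α)⁻¹, -(β - ε * α)⁻¹, ?_⟩
      have h1 : (β - ε * α) * (β - ε * α)⁻¹ = 1 := mul_inv_cancel₀ hd
      set t := (β - ε * α)⁻¹ with ht
      rw [hε]
      linear_combination (-t ^ 2) * hε2 - h1
    · have hD : (4 - γ ^ 2 : F) ≠ 0 := sub_ne_zero.2 (Ne.symm hγ)
      set u : F := (2 * α - γ * (γ * α - β)) / (4 - γ ^ 2) with hu
      set v : F := (γ * α - 2 * β) / (4 - γ ^ 2) with hv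
      have hu' : (4 - γ ^ 2) * u = 2 * α - γ * (γ * α - β) := by rw [hu]; field_simp
      have hv' : (4 - γ ^ 2) * v = γ * α - 2 * β := by rw [hv]; field_simp
      have e1 : 2 * u + γ * v = α := by
        apply mul_left_cancel₀ hD
        linear_combination 2 * hu' + γ * hv'
      have e2 : γ * u + 2 * v = γ * α - β := by
        apply mul_left_cancel₀ hD
        linear_combination γ * hu' + 2 * hv'
      obtain ⟨x', z', h'⟩ := exists_value γ (-(u ^ 2 + γ * u * v + v ^ 2 - α * u + (β - γ * α) * v + 1)) hγ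
      refine ⟨x' + u, z' + v, ?_⟩
      linear_combination h' + x' * e1 + z' * e2
  have hdet : (!![x, β + z - γ * (α - x); z, α - x] : Matrix (Fin 2) (Fin 2) F).det = 1 := by
    rw [det_fin_two_of]
    linear_combination -key
  set N : SL(2, F) := ⟨!![x, β + z - γ * (α - x); z, α - x], hdet⟩ with hN
  have N00 : N 0 0 = x := rfl
  have N01 : N 0 1 = β + z - γ * (α - x) := rfl
  have N10 : N 1 0 = z := rfl
  have N11 : N 1 1 = α - x := rfl
  refine ⟨N, ?_, ?_⟩
  · rw [tr, N00, N11]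
    ring
  · rw [tr, mul00, mul11, N00, N01, N10, N11, comp00, comp01, comp10, comp11]
    ring

omit [Fintype F] in
theorem tr_gc (P : GL (Fin 2) F) (A : SL(2, F)) : tr (gc P A) = tr A := by
  have h : ∀ B : SL(2, F), tr B = B.1.trace := fun B => by rw [Matrix.trace_fin_two]; rfl
  rw [h, h]
  show (P.1 * A.1 * (P⁻¹).1).trace = _
  rw [Matrix.trace_mul_cycle, ← Units.val_mul, inv_mul_cancel, Units.val_one, one_mul]

omit [Fintype F] in
/-- a nonscalar matrix is conjugate to its companion matrix -/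
theorem exists_gc (X : SL(2, F)) (hX : X.1 0 1 ≠ 0 ∨ X.1 1 0 ≠ 0 ∨ X.1 0 0 ≠ X.1 1 1) :
    ∃ P : GL (Fin 2) F, X = gc P (comp (tr X)) := by
  have hdet := det_eq X
  obtain ⟨x, y, hxy⟩ : ∃ x y : F, X 1 0 * x ^ 2 + (X 1 1 - X 0 0) * x * y - X 0 1 * y ^ 2 ≠ 0 := by
    by_cases h1 : X 1 0 = 0
    · by_cases h2 : X 0 1 = 0
      · refine ⟨1, 1, ?_⟩
        rw [h1, h2]
        have h3 : X 0 0 ≠ X 1 1 := (hX.resolve_left (fun h => h h2)).resolve_left (fun h => h h1)
        intro h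
        apply h3
        linear_combination -h
      · refine ⟨0, 1, ?_⟩
        intro h
        apply h2
        linear_combination -h
    · refine ⟨1, 0, ?_⟩
      intro h
      apply h1
      linear_combination h
  have hP : (!![x, X 0 0 * x + X 0 1 * y; y, X 1 0 * x + X 1 1 * y] : Matrix (Fin 2) (Fin 2) F).det ≠ 0 := by
    rw [det_fin_two_of]
    intro h
    apply hxy
    linear_combination h
  obtain ⟨P, hPd⟩ : ∃ P : GL (Fin 2) F, P.1 = !![x, X 0 0 * x + X 0 1 * y; y, X 1 0 * x + X 1 1 * y] :=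
    ⟨Matrix.GeneralLinearGroup.mkOfDetNeZero _ hP, rfl⟩
  refine ⟨P, ?_⟩
  have key : X.1 * P.1 = P.1 * (comp (tr X)).1 := by
    rw [hPd]
    have hc : (comp (tr X)).1 = !![0, -1; 1, X 0 0 + X 1 1] := rfl
    have hX2 : X.1 = !![X 0 0, X 0 1; X 1 0, X 1 1] := Matrix.eta_fin_two _
    rw [hc, hX2]
    ext i j
    fin_cases i <;> fin_cases j
    · simp
    · simp
      linear_combination (-x) * hdet
    · simp
    · simp
      linear_combination (-y) * hdet
  apply Subtype.ext
  show X.1 = P.1 * (comp (tr X)).1 * (P⁻¹).1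
  rw [← key, mul_assoc, ← Units.val_mul, mul_inv_cancel, Units.val_one, mul_one]

/-- **Pairs with given traces.** -/
theorem exists_pair (X : SL(2, F)) (hX : X.1 0 1 ≠ 0 ∨ X.1 1 0 ≠ 0 ∨ X.1 0 0 ≠ X.1 1 1) (α β : F)
    (h : α ^ 2 ≠ β ^ 2) : ∃ A B : SL(2, F), A * B = X ∧ tr A = α ∧ tr B = β := by
  obtain ⟨P, hP⟩ := exists_gc X hX
  obtain ⟨N, hN1, hN2⟩ := comp_pair (tr X) α β h
  refine ⟨gc P N⁻¹, gc P (N * comp (tr X)), ?_, ?_, ?_⟩
  · rw [← gc_mul, inv_mul_cancel_left, ← hP]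
  · rw [tr_gc, Cfsg.Agent.H118.O8S.tr_inv, hN1]
  · rw [tr_gc, tr_mul_comm, hN2]

end

end Cfsg.Agent.H932.TC6.SLPair
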