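import Cfsg.Agent.H932.TC6.NF
import Cfsg.Agent.H932.TC6.Tor
import Cfsg.Agent.H932.TC6.SLElt
import Cfsg.Agent.H446.TC6.NumTd
import Cfsg.Agent.KFacts.RgdDiag

/-!
`³D₄(q)`, `q ∉ {2, 3, 5, 7, 17}`: every element `≠ 1` is a product of a conjugate of `x` and a conjugate of `y`, of orders
prime to `6` (S2464).
-/

set_option autoImplicit false
set_option linter.unusedSectionVars false

namespace Cfsg.Agent.H932.TC6.TwD4

open CoxeterSystem Cfsg.Agent.ChevalleyStructure.CoxeterGeom Cfsg.Agent.Tits.Roots Cfsg.Agent.Tits.Core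
  Cfsg.Agent.Nodes Cfsg.Agent.Nodes.Reps Cfsg.Agent.Nodes.BNOf Cfsg.Agent.Nodes.RGDLib Cfsg.Agent.Nodes.Bruhat
  Cfsg.Agent.Nodes.OppDec Cfsg.Agent.Nodes.LeviDec Cfsg.Agent.Nodes.StabComb Cfsg.Agent.Nodes.KindChev
  Cfsg.Agent.Nodes.ChevCls
  Cfsg.Agent.OddHalf.NI.ModelChev
  Cfsg.Agent.H162.GaussDec Cfsg.Agent.H162.GaussLevi
  Cfsg.Agent.H928.Ore.Frame Cfsg.Agent.H928.Ore.Fix
open Cfsg.Lie Cfsg.Agent.ChevalleyStructure Cfsg.Agent.ChevalleyStructure.Elts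
  Cfsg.Agent.ChevalleyStructure.NPerm
  Cfsg.Agent.ChevalleyStructure.CoxeterGeomTypes Cfsg.Agent.Nodes.RGDChev Cfsg.Agent.KFacts.RgdChevCoord
open Cfsg.Agent.Nodes.RGDTwGen Cfsg.Agent.Nodes.RGDFold Cfsg.Agent.Nodes.RGDTwD4
open Cfsg.Agent.Nodes.RGDFoldSL (Fx mem_Fx)
open Cfsg.Agent.ChevalleyStructure.TwistedU Cfsg.Agent.ChevalleyStructure.TwistedFix
open Cfsg.Agent.ChevalleyStructure.SL2Hom (up lo mem_closure_SL2)
open Cfsg.Agent.Nodes.RGDTwNode.D4 (nodeOK eps_one rest)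
open Cfsg.Agent.Ree.PSLTori (tr)
open Cfsg.Agent.OddHalf.NI
open Cfsg.Agent.H874.War.TwD4 Cfsg.Agent.H932.TC6.BaseD4 Cfsg.Agent.H932.TC6.NFz Cfsg.Agent.H932.TC6.Tor
open scoped MatrixGroups

universe u

/-- the pair lemma -/
def PairSL (F : Type u) [Field F] : Prop := ∀ (X : SL(2, F)), (X.1 0 1 ≠ 0 ∨ X.1 1 0 ≠ 0 ∨ X.1 0 0 ≠ X.1 1 1) →
  ∀ a b : F, a ^ 2 ≠ b ^ 2 → ∃ A B : SL(2, F), A * B = X ∧ tr A = a ∧ tr B = b

section

variable {I W Y : Type*} [Fintype I] [DecidableEq I] [Group W] [Group Y] {M : CoxeterMatrix I}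
  {cs : CoxeterSystem M W} {A : I → I → ℤ} {h : IsCartan M A} {X : (I → ℤ) → Subgroup Y}

theorem UNJ_singleton (i : I) : UNJ cs h X {i} = X (-sr i) := by
  have h1 : {x | -x ∈ PosJ cs h {i}} = {-sr i} := by
    ext x
    constructor
    · rintro ⟨h1, h2, h3⟩
      have h4 : -x = sr i := h1.eq_sr h2 i fun k hk => h3 k hk
      rw [Set.mem_singleton_iff, ← h4, neg_neg]
    · intro hx
      rw [Set.mem_singleton_iff] at hx
      show -x ∈ PosJ cs h {i}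
      rw [hx, neg_neg]
      exact sr_mem_PosJ rfl
  unfold UNJ
  rw [h1]
  apply le_antisymm
  · refine RGD.Sup_le fun z hz => ?_
    rw [Set.mem_singleton_iff.1 hz]
  · exact RGD.le_Sup rfl

end

section

variable {K : Type u} [Field K] [Fintype K] {φ : K →+* K} {q : ℕ} (hK : Fintype.card K = q ^ 3)
  (hφ : ∀ x, φ x = x ^ q)

theorem zz_mul_inv (w : (Fx φ ((rest 1).length + 1))ˣ) : zz hK hφ w * zz hK hφ w⁻¹ = 1 := by
  have h4 : ∀ {F : Type u} [Field F], (Mult.dg (1 : Fˣ) : SL(2, F)) = 1 := map_one Mult.dgHom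
  have h5 : ∀ {F : Type u} [Field F] (x : Fˣ), (Mult.dg x : SL(2, F)) * Mult.dg x⁻¹ = 1 := fun x => by
    have := map_mul Mult.dgHom x x⁻¹
    rw [mul_inv_cancel, map_one] at this
    exact this.symm
  unfold zz tt
  rw [h4, map_one, one_mul, one_mul, ← map_mul, h5, map_one]

theorem P0_mem_LJ {W : Type*} [Group W] (cs : CoxeterSystem CoxeterMatrix.G₂ W) (T' : Subgroup ↥(twistedD4 K q))
    (g : SL(2, Fx φ ((rest 0).length + 1))) : P hK hφ 0 g ∈ LJ cs RGDTwD4.isCartan T' (X φ q) {0} := by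
  have C := coordP hK hφ
  have : Subgroup.closure (Set.range (up (F := Fx φ ((rest 0).length + 1))) ∪
      Set.range (lo (F := Fx φ ((rest 0).length + 1)))) ≤
      (LJ cs RGDTwD4.isCartan T' (X φ q) {0}).comap (P hK hφ 0) := by
    rw [Subgroup.closure_le]
    have hs : ∀ k : Fin 2, k ∉ ({0} : Set (Fin 2)) → (sr (0 : Fin 2)) k = 0 := fun k hk => sr_ne hk
    rintro _ (⟨a, rfl⟩ | ⟨a, rfl⟩)
    · exact X_le_LJ (x := sr 0) ⟨isRoot_sr _ _ 0, hs⟩ (C.mem_up 0 a)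
    · exact X_le_LJ (x := -sr 0) ⟨(isRoot_sr _ _ 0).neg, fun k hk => by
        rw [Pi.neg_apply, hs k hk, neg_zero]⟩ (C.mem_lo 0 a)
  exact this (mem_closure_SL2 g)

include hK in
theorem card_F0 (hφ : ∀ x, φ x = x ^ q) (hq1 : 1 < q) : Nat.card (Fx φ ((rest 0).length + 1)) = q := by
  rw [← FixedCard.card_fixed hq1 hK]
  refine Nat.card_congr (Equiv.subtypeEquivRight fun t => ?_)
  rw [mem_Fx]
  show φ t = t ↔ _
  rw [hφ]

/-- an element of norm one and of order `r` -/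
theorem exists_w (hφ : ∀ x, φ x = x ^ q) (hK : Fintype.card K = q ^ 3) {r : ℕ} (hr : r.Prime)
    (hd : r ∣ q ^ 2 + q + 1) : ∃ v : K, v ^ r = 1 ∧ v ≠ 1 ∧ v * (φ v * φ (φ v)) = 1 := by
  have := Fact.mk hr
  have h2 : r ∣ Nat.card Kˣ := by
    rw [Nat.card_units, Nat.card_eq_fintype_card, hK]
    obtain ⟨k, hk⟩ := hd
    rcases Nat.eq_zero_or_pos q with h0 | h0
    · rw [h0]; simp
    obtain ⟨n, rfl⟩ : ∃ n, q = n + 1 := ⟨q - 1, by omega⟩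
    have e : (n + 1) ^ 3 = n * ((n + 1) ^ 2 + (n + 1) + 1) + 1 := by ring
    rw [e, Nat.add_sub_cancel, hk]
    exact (dvd_mul_right r k).mul_left n
  obtain ⟨w, hw⟩ := exists_prime_orderOf_dvd_card' (G := Kˣ) r h2
  have h3 : w ^ r = 1 := by rw [← hw]; exact pow_orderOf_eq_one w
  have h4 : w ≠ 1 := by
    rintro rfl
    rw [orderOf_one] at hw
    exact hr.one_lt.ne hw
  refine ⟨w, ?_, ?_, ?_⟩
  · rw [← Units.val_pow_eq_pow_val, h3, Units.val_one]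
  · intro h
    exact h4 (Units.ext h)
  · obtain ⟨k, hk⟩ := hd
    rw [hφ, hφ, ← pow_mul]
    have e : (w : K) * ((w : K) ^ q * (w : K) ^ (q * q)) = (w : K) ^ (q ^ 2 + q + 1) := by ring
    rw [e, hk, pow_mul, ← Units.val_pow_eq_pow_val, h3, Units.val_one, one_pow]

end

theorem exists_mu {F : Type*} [Field F] [Finite F] (h : 4 ≤ Nat.card F) : ∃ m : Fˣ, (m : F) ≠ ((m⁻¹ : Fˣ) : F) := by
  have : Fintype F := Fintype.ofFinite F
  obtain ⟨z, hz⟩ := IsCyclic.exists_ofOrder_eq_natCard (α := Fˣ)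
  refine ⟨z, fun h2 => ?_⟩
  have h3 : z ^ 2 = 1 := by
    have h4 : z = z⁻¹ := Units.ext h2
    rw [pow_two]
    nth_rw 2 [h4]
    exact mul_inv_cancel z
  have h5 := Nat.le_of_dvd (by norm_num) (orderOf_dvd_of_pow_eq_one h3)
  rw [hz, Nat.card_units] at h5
  omega

/-- **The generic case.** -/
theorem main {K : Type u} [Field K] [Fintype K] {q : ℕ} (hq : IsPrimePow q) (hK : Fintype.card K = q ^ 3)
    (hP : ∀ (F : Type u) [Field F] [Finite F], PairSL F)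
    (h2 : q ≠ 2) (h3 : q ≠ 3) (h5 : q ≠ 5) (h7 : q ≠ 7) (h17 : q ≠ 17) :
    ∃ x y : ↥(twistedD4 K q), Nat.Coprime (orderOf x) 6 ∧ Nat.Coprime (orderOf y) 6 ∧
      ∀ g : ↥(twistedD4 K q), g ≠ 1 → ∃ u v, g = (u * x * u⁻¹) * (v * y * v⁻¹) := by
  obtain ⟨φ, hφ⟩ := D4Fixed.exists_frob hq hK
  obtain ⟨p, hpc⟩ := CharP.exists K
  have : Fact p.Prime := ⟨(CharP.char_is_prime_or_zero K p).resolve_right (CharP.char_ne_zero_of_finite K p)⟩
  have := finite_tw K q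
  have R := RGDTwD4.rgd CoxeterMatrix.G₂.toCoxeterSystem hK hφ p
  have : Finite CoxeterMatrix.G₂.Group := Cfsg.Agent.Nodes.RGDFold.finite_W (hp := RGDTwD4.hp)
    CoxeterMatrix.G₂.toCoxeterSystem RGDTwD4.isCartan RGDTwD4.foldData
  have hS := Cfsg.Agent.S1071.result hq hK
  have := hS.1
  obtain ⟨r₁, hr₁, h51, hd1⟩ := Cfsg.Agent.H446.TC6.exists_r1 hq.two_le
  obtain ⟨r₂, hr₂, h52, hd2⟩ := Cfsg.Agent.H446.TC6.exists_r2 hq h2 h3 h5 h7 h17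
  have hne : r₁ ≠ r₂ := by
    rintro rfl
    exact Cfsg.Agent.H446.TC6.ne_of_dvd hq.two_le hr₁ h51 hd1 hd2
  have hcop : Nat.Coprime r₁ r₂ := (Nat.coprime_primes hr₁ hr₂).2 hne
  have hodd : Odd r₁ := hr₁.odd_of_ne_two (by omega)
  -- the elements
  have hF : Nat.card (Fx φ ((rest 0).length + 1)) = q := card_F0 hK hφ hq.one_lt
  let _ : Fintype (Fx φ ((rest 0).length + 1)) := Fintype.ofFinite _
  obtain ⟨s, hs1, ht1, ht2, ht3⟩ := Cfsg.Agent.H932.TC6.SLElt.exists_s (F := Fx φ ((rest 0).length + 1)) hr₂ h52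
    (by rw [← Nat.card_eq_fintype_card, hF]; exact hd2)
  obtain ⟨v, hv, hv1, hn⟩ := exists_w hφ hK hr₁ hd1
  have hv0 : v ≠ 0 := by
    rintro rfl
    rw [zero_pow hr₁.ne_zero] at hv
    exact zero_ne_one hv
  obtain ⟨w, hw⟩ : ∃ w : (Fx φ ((rest 1).length + 1))ˣ, ((w : Fx φ ((rest 1).length + 1)) : K) = v := by
    refine ⟨Units.mk0 ⟨v, ?_⟩ ?_, rfl⟩
    · refine mem_Fx.2 ?_
      show φ (φ (φ v)) = v
      rw [hφ, hφ, hφ, ← pow_mul, ← pow_mul]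
      have : q * (q * q) = Fintype.card K := by rw [hK]; ring
      rw [this, FiniteField.pow_card]
    · intro h0
      exact hv0 (congrArg Subtype.val h0)
  have hw' : (((w⁻¹ : (Fx φ ((rest 1).length + 1))ˣ) : Fx φ ((rest 1).length + 1)) : K) = v⁻¹ := by
    rw [← hw, Units.val_inv_eq_inv_val]
    rfl
  have hv' : (v⁻¹) ^ r₁ = 1 := by rw [inv_pow, hv, inv_one]
  have hv1' : v⁻¹ ≠ 1 := fun h => hv1 (inv_eq_one.1 h)
  have hn' : v⁻¹ * (φ v⁻¹ * φ (φ v⁻¹)) = 1 := by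
    rw [map_inv₀, map_inv₀, ← mul_inv, ← mul_inv, hn, inv_one]
  have hwr : w ^ r₁ = 1 := by
    apply Units.ext
    apply Subtype.ext
    rw [Units.val_pow_eq_pow_val, SubmonoidClass.coe_pow, hw, hv]
    rfl
  have hs2 : (s ^ 2) ^ r₂ = 1 := by rw [← pow_mul, mul_comm, pow_mul, hs1, one_pow]
  obtain ⟨x, hx⟩ : ∃ x, x = zz hK hφ w * P hK hφ 0 s := ⟨_, rfl⟩
  obtain ⟨y, hy⟩ : ∃ y, y = zz hK hφ w⁻¹ * P hK hφ 0 (s ^ 2) := ⟨_, rfl⟩
  have hcz : ∀ g, Commute (zz hK hφ w) (P hK hφ 0 g) := commute_zz hK hφ hv0 hw hn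
  have hcz' : ∀ g, Commute (zz hK hφ w⁻¹) (P hK hφ 0 g) := commute_zz hK hφ (inv_ne_zero hv0) hw' hn'
  -- the orders
  have h6 : Nat.Coprime (r₁ * r₂) 6 := by
    have e1 : Nat.Coprime r₁ 6 := Nat.Coprime.mul_right ((Nat.coprime_primes hr₁ Nat.prime_two).2 (by omega))
      ((Nat.coprime_primes hr₁ Nat.prime_three).2 (by omega))
    have e2 : Nat.Coprime r₂ 6 := Nat.Coprime.mul_right ((Nat.coprime_primes hr₂ Nat.prime_two).2 (by omega))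
      ((Nat.coprime_primes hr₂ Nat.prime_three).2 (by omega))
    exact Nat.Coprime.mul_left e1 e2
  have hox : x ^ (r₁ * r₂) = 1 := by
    rw [hx, (hcz s).mul_pow, zz_pow, ← map_pow, pow_mul, hwr, one_pow, zz_one, one_mul, mul_comm r₁, pow_mul, hs1,
      one_pow, map_one]
  have hoy : y ^ (r₁ * r₂) = 1 := by
    rw [hy, (hcz' (s ^ 2)).mul_pow, zz_pow, ← map_pow, pow_mul, inv_pow, hwr, inv_one, one_pow, zz_one, one_mul,
      mul_comm r₁, pow_mul, hs2, one_pow, map_one]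
  refine ⟨x, y, Nat.Coprime.of_dvd_left (orderOf_dvd_of_pow_eq_one hox) h6,
    Nat.Coprime.of_dvd_left (orderOf_dvd_of_pow_eq_one hoy) h6, fun g hg => ?_⟩
  obtain ⟨m, hm⟩ := exists_mu (F := Fx φ ((rest 0).length + 1)) (by
    rw [hF]
    have := hq.two_le
    omega)
  have hT : P hK hφ 0 (Mult.dg m) ∈ T K q :=
    ModelTw.Phi_dg_mem (foldGrp hφ (D4Fixed.twisted_le_fix hK hφ)) nodeOK (H874.War.TwD4.hf hφ) 0 m
  have hzT : ∀ w, zz hK hφ w ∈ T K q := fun w => tt_mem hK hφ 1 w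
  have hb : ∀ l ∈ UNJ CoxeterMatrix.G₂.toCoxeterSystem RGDTwD4.isCartan (X φ q) {0},
      ∀ u ∈ UJ CoxeterMatrix.G₂.toCoxeterSystem RGDTwD4.isCartan (X φ q) {0},
      ∃ c₁ c₂, l * P hK hφ 0 (Mult.dg m) * u = c₁ * c₂ ∧
        LP CoxeterMatrix.G₂.toCoxeterSystem RGDTwD4.isCartan (T K q) (X φ q) {0} c₁ c₂ ∧
        ((∃ a, c₁ = a * x * a⁻¹) ∧ ∃ b, c₂ = b * y * b⁻¹) := by
    intro l hl u hu
    rw [UNJ_singleton] at hl
    rw [KFacts.RgdDiag.UJ_singleton] at hu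
    obtain ⟨c, rfl⟩ := (coordP hK hφ).exists_lo hl
    obtain ⟨d, rfl⟩ := (coordP hK hφ).exists_up hu
    obtain ⟨A, B, hAB, hA, hB⟩ := hP (Fx φ ((rest 0).length + 1)) (Mult.lo c * Mult.dg m * Mult.up d) (by
      by_contra hcon
      push Not at hcon
      obtain ⟨e1, e2, e3⟩ := hcon
      have e4 : (Mult.lo c * Mult.dg m * Mult.up d : SL(2, Fx φ ((rest 0).length + 1))).1 =
          !![(m : Fx φ ((rest 0).length + 1)), m * d; c * m, c * m * d + ((m⁻¹ : (Fx φ ((rest 0).length + 1))ˣ) :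
            Fx φ ((rest 0).length + 1))] := by
        show (!![1, 0; c, 1] * !![(m : Fx φ ((rest 0).length + 1)), 0; 0, ((m⁻¹ : (Fx φ ((rest 0).length + 1))ˣ) :
            Fx φ ((rest 0).length + 1))] * !![1, d; 0, 1] : Matrix (Fin 2) (Fin 2) (Fx φ ((rest 0).length + 1))) = _
        ext i j
        fin_cases i <;> fin_cases j <;> simp [Matrix.mul_apply, Fin.sum_univ_two]
      rw [e4] at e1 e2 e3
      simp only [Matrix.of_apply, Matrix.cons_val', Matrix.cons_val_zero, Matrix.cons_val_one,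
        Matrix.cons_val_fin_one] at e1 e2 e3
      rw [e2, zero_mul, zero_add] at e3
      exact hm e3) (tr s) (tr (s ^ 2)) ht3
    have hcA : IsConj s A := Cfsg.Agent.H118.O8S.exists_conj _ _ ht1 hA.symm
    have hcB : IsConj (s ^ 2) B := Cfsg.Agent.H118.O8S.exists_conj _ _ ht2 hB.symm
    obtain ⟨k₁, hk₁⟩ := isConj_iff.1 hcA
    obtain ⟨k₂, hk₂⟩ := isConj_iff.1 hcB
    have hA1 : A ^ r₂ = 1 := by rw [← hk₁, conj_pow, hs1, mul_one, mul_inv_cancel]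
    have hB1 : B ^ r₂ = 1 := by rw [← hk₂, conj_pow, hs2, mul_one, mul_inv_cancel]
    have n1 := nf hK hφ CoxeterMatrix.G₂.toCoxeterSystem hw hv1 hn hv hodd hcop hA1 (by rw [hA]; exact ht1)
    have n2 := nf hK hφ CoxeterMatrix.G₂.toCoxeterSystem hw' hv1' hn' hv' hodd hcop hB1 (by rw [hB]; exact ht2)
    refine ⟨zz hK hφ w * P hK hφ 0 A, zz hK hφ w⁻¹ * P hK hφ 0 B, ?_, ⟨?_, ?_, n1.1, n2.2⟩, ⟨P hK hφ 0 k₁, ?_⟩,
      ⟨P hK hφ 0 k₂, ?_⟩⟩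
    · have e1 : zz hK hφ w * P hK hφ 0 A * (zz hK hφ w⁻¹ * P hK hφ 0 B) =
          zz hK hφ w * zz hK hφ w⁻¹ * (P hK hφ 0 A * P hK hφ 0 B) := by
        rw [mul_assoc, ← mul_assoc (P hK hφ 0 A), ← (hcz' A).eq]
        simp only [mul_assoc]
      rw [e1, zz_mul_inv, one_mul, ← map_mul (P hK hφ 0) A B, hAB, map_mul, map_mul]
    · exact mul_mem (T_le_LJ (hzT w)) (P0_mem_LJ hK hφ _ _ _)
    · exact mul_mem (T_le_LJ (hzT w⁻¹)) (P0_mem_LJ hK hφ _ _ _)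
    · rw [hx, ← hk₁, map_mul, map_mul, map_inv, ← mul_assoc (P hK hφ 0 k₁), ← (hcz k₁).eq]
      simp only [mul_assoc]
    · rw [hy, ← hk₂, map_mul, map_mul, map_inv, ← mul_assoc (P hK hφ 0 k₂), ← (hcz' k₂).eq]
      simp only [mul_assoc]
  obtain ⟨c₁, c₂, a, b, ⟨⟨a', ha'⟩, b', hb'⟩, e⟩ := pair_tor R
    (RGDTwD4.G1_eq_top CoxeterMatrix.G₂.toCoxeterSystem hK hφ) (coordP hK hφ) hconn hT (J := {0})
    (Pr := fun c₁ c₂ => (∃ a, c₁ = a * x * a⁻¹) ∧ ∃ b, c₂ = b * y * b⁻¹) (g := g) hb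
    (Cfsg.Agent.H928.War.Rgd.core_trivial R hg)
  refine ⟨a * a', b * b', ?_⟩
  rw [e, ha', hb']
  group

end Cfsg.Agent.H932.TC6.TwD4
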